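import Mathlib

/-!
# Searching for profiles (helper536)

`cls` : the classes of divisors of `N`, `(Q, ds)` with `Q ∣ d` for `d ∈ ds`; `cs` : the constraints `(j, A)`:
`∑_{d ∣ j} e d ∈ A`.  `kill` : if the Boolean `chk` is true there is no such `e` with `φ(d) ∣ e d`.
-/

set_option autoImplicit false

namespace Cfsg.Agent.H536.TC

/-- Euler's function -/
def tot (n : ℕ) : ℕ := ((List.range n).filter fun a => Nat.gcd n a == 1).length

theorem tot_eq (n : ℕ) : tot n = n.totient := by
  have h1 : n.totient = ((List.range n).filter fun a => decide (Nat.Coprime n a)).length := rfl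
  rw [h1]
  unfold tot
  congr 1

/-- the divisors -/
def divs (n : ℕ) : List ℕ := (List.range (n + 1)).filter fun d => d != 0 && n % d == 0

theorem mem_divs {n d : ℕ} (hn : 0 < n) : d ∈ divs n ↔ d ∈ n.divisors := by
  unfold divs
  rw [List.mem_filter, List.mem_range, Nat.mem_divisors, Bool.and_eq_true, bne_iff_ne, beq_iff_eq]
  constructor
  · rintro ⟨-, -, h⟩
    exact ⟨Nat.dvd_of_mod_eq_zero h, hn.ne'⟩
  · rintro ⟨h, -⟩
    exact ⟨Nat.lt_succ_of_le (Nat.le_of_dvd hn h), (Nat.pos_of_dvd_of_pos h hn).ne', Nat.mod_eq_zero_of_dvd h⟩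

theorem nodup_divs (n : ℕ) : (divs n).Nodup := List.nodup_range.filter _

theorem sum_divs {n : ℕ} (hn : 0 < n) (e : ℕ → ℕ) : ∑ d ∈ n.divisors, e d = ((divs n).map e).sum := by
  have h1 : n.divisors = (divs n).toFinset := by
    ext d
    rw [List.mem_toFinset, mem_divs hn]
  rw [h1, List.sum_toFinset _ (nodup_divs n)]

/-- does the class `c` contribute to the constraint `j`? -/
def flag (j : ℕ) (c : ℕ × List ℕ) : Bool := c.2.all fun d => j % d == 0

/-- adding the value `v` for the class `c` -/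
def step (c : ℕ × List ℕ) (v : ℕ) (a : ℕ × ℕ × List ℕ) : ℕ × ℕ × List ℕ :=
  if flag a.1 c then (a.1, a.2.1 + v, a.2.2) else a

/-- the search -/
def srch : List (ℕ × List ℕ) → ℕ → List (ℕ × ℕ × List ℕ) → Bool
  | [], rem, accs => rem == 0 && accs.all fun a => a.2.2.contains a.2.1
  | c :: L, rem, accs =>
    let w := tot c.1
    (List.range (rem / w + 1)).any fun k =>
      let accs' := accs.map (step c (w * k))
      (accs'.all fun a => a.2.2.any fun b => Nat.ble a.2.1 b) && srch L (rem - w * k) accs'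

/-- the value of a class -/
def val (e : ℕ → ℕ) (c : ℕ × List ℕ) : ℕ := (c.2.map e).sum

theorem srch_of {e : ℕ → ℕ} : ∀ {L : List (ℕ × List ℕ)} {rem : ℕ} {accs : List (ℕ × ℕ × List ℕ)},
    (∀ c ∈ L, 0 < c.1 ∧ tot c.1 ∣ val e c) → (L.map (val e)).sum = rem →
    (∀ a ∈ accs, a.2.1 + ((L.filter (flag a.1)).map (val e)).sum ∈ a.2.2) → srch L rem accs = true := by
  intro L
  induction L with
  | nil =>
    intro rem accs _ h2 h3
    unfold srch
    rw [Bool.and_eq_true, beq_iff_eq, List.all_eq_true]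
    refine ⟨h2.symm, fun a ha => ?_⟩
    have h4 := h3 a ha
    rw [List.filter_nil, List.map_nil, List.sum_nil, add_zero] at h4
    rw [List.contains_iff_mem]
    exact h4
  | cons c L ih =>
    intro rem accs h1 h2 h3
    unfold srch
    obtain ⟨hc0, k, hk⟩ := h1 c List.mem_cons_self
    have hw : 0 < tot c.1 := by
      rw [tot_eq]
      exact Nat.totient_pos.2 hc0
    rw [List.map_cons, List.sum_cons] at h2
    dsimp only
    rw [List.any_eq_true]
    refine ⟨k, ?_, ?_⟩
    · rw [List.mem_range, Nat.lt_succ_iff, Nat.le_div_iff_mul_le hw, mul_comm, ← hk]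
      omega
    · have h4 : ∀ a ∈ accs.map (step c (tot c.1 * k)), a.2.1 + ((L.filter (flag a.1)).map (val e)).sum ∈ a.2.2 := by
        intro a ha
        obtain ⟨b, hb, rfl⟩ := List.mem_map.1 ha
        have h5 := h3 b hb
        unfold step
        by_cases hf : flag b.1 c = true
        · rw [if_pos hf]
          rw [List.filter_cons_of_pos hf, List.map_cons, List.sum_cons, ← add_assoc, hk] at h5
          exact h5
        · rw [if_neg hf]
          rw [List.filter_cons_of_neg hf] at h5
          exact h5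
      rw [Bool.and_eq_true, List.all_eq_true]
      refine ⟨fun a ha => ?_, ih (fun c hc => h1 c (List.mem_cons_of_mem _ hc)) ?_ h4⟩
      · rw [List.any_eq_true]
        exact ⟨_, h4 a ha, by rw [Nat.ble_eq]; exact Nat.le_add_right _ _⟩
      · rw [← hk]
        omega

/-- the check: no profile -/
def chk (N D : ℕ) (cls : List (ℕ × List ℕ)) (cs : List (ℕ × List ℕ)) : Bool :=
  N != 0 && (cls.all fun c => c.1 != 0 && c.2.all fun d => d != 0 && d % c.1 == 0) &&
    ((cls.flatMap fun c => c.2).isPerm (divs N)) &&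
    (cs.all fun a => a.1 != 0 && (((cls.filter (flag a.1)).flatMap fun c => c.2).isPerm (divs a.1))) &&
    !(srch cls D (cs.map fun a => (a.1, 0, a.2)))

theorem sum_flatMap (e : ℕ → ℕ) (L : List (ℕ × List ℕ)) : ((L.flatMap fun c => c.2).map e).sum = (L.map (val e)).sum := by
  induction L with
  | nil => rfl
  | cons c L ih =>
    rw [List.flatMap_cons, List.map_append, List.sum_append, ih, List.map_cons, List.sum_cons]
    rfl

theorem kill {e : ℕ → ℕ} (h1 : ∀ d, 0 < d → d.totient ∣ e d) {N D : ℕ} {cls : List (ℕ × List ℕ)}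
    {cs : List (ℕ × List ℕ)} (hchk : chk N D cls cs = true) (hN : ∑ d ∈ N.divisors, e d = D)
    (hc : ∀ c ∈ cs, ∑ d ∈ c.1.divisors, e d ∈ c.2) : False := by
  unfold chk at hchk
  simp only [Bool.and_eq_true, bne_iff_ne, Bool.not_eq_true'] at hchk
  obtain ⟨⟨⟨⟨g0, g1⟩, g2⟩, g3⟩, g4⟩ := hchk
  rw [List.all_eq_true] at g1 g3
  have hs := srch_of (e := e) (L := cls) (rem := D) (accs := cs.map fun a => (a.1, 0, a.2)) ?_ ?_ ?_
  · rw [g4] at hs
    exact absurd hs (by decide)
  · intro c hc
    have h2 := g1 c hc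
    rw [Bool.and_eq_true, bne_iff_ne, List.all_eq_true] at h2
    refine ⟨Nat.pos_of_ne_zero h2.1, ?_⟩
    unfold val
    apply List.dvd_sum
    intro x hx
    obtain ⟨d, hd, rfl⟩ := List.mem_map.1 hx
    have h3 := h2.2 d hd
    rw [Bool.and_eq_true, bne_iff_ne, beq_iff_eq] at h3
    rw [tot_eq]
    exact (Nat.totient_dvd_of_dvd (Nat.dvd_of_mod_eq_zero h3.2)).trans (h1 d (Nat.pos_of_ne_zero h3.1))
  · rw [← sum_flatMap, ← hN, sum_divs (Nat.pos_of_ne_zero g0)]
    exact ((List.isPerm_iff.1 g2).map e).sum_eq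
  · intro a ha
    obtain ⟨b, hb, rfl⟩ := List.mem_map.1 ha
    have h2 := g3 b hb
    rw [Bool.and_eq_true, bne_iff_ne] at h2
    have h3 := hc b hb
    rw [sum_divs (Nat.pos_of_ne_zero h2.1)] at h3
    have h4 := ((List.isPerm_iff.1 h2.2).map e).sum_eq
    rw [← h4, sum_flatMap] at h3
    rw [zero_add]
    exact h3

end Cfsg.Agent.H536.TC
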