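import Cfsg.Agent.H536.TC.Prof
import Cfsg.Agent.H536.TC.Srch
import Cfsg.Agent.H898.RowCo0
import Cfsg.Agent.BpSpor.CoTwoFive
import Cfsg.Agent.S0397

/-!
# The element orders of `Co0` (helper536)

From the fixed dimensions of the elements of prime order (2: 0, 8, 12, 16; 3: 0, 6, 8, 12; 5: 0, 4, 8; 7: 0, 6; 11: 4;
13: 0; 23: 2) alone:

* `orders_co0` : `orderOf g ∈ L0`, in particular `orderOf g ≤ 240`;
* `orders_fix` : `orderOf g ∈ L1`, in particular `orderOf g ≤ 144`, if `g` fixes a nonzero vector.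
-/

set_option autoImplicit false

namespace Cfsg.Agent.H536.TC

open Module Cfsg Cfsg.Agent.SigZeroCo2.Rank
open Cfsg.Agent.SigZeroCo2.Lin (rep Sp toV toV_injective rep_toV)

/-! ### Lists of divisors -/

/-- all divisors `m ∏ p ^ k` are in `L` or divisible by a member of `K` -/
def enum (K L : List ℕ) : List (ℕ × ℕ) → ℕ → Bool
  | [], m => L.contains m
  | x :: l, m => (List.range (x.2 + 1)).all fun k =>
    (K.any fun y => (m * x.1 ^ k) % y == 0) || enum K L l (m * x.1 ^ k)

theorem enum_sound {K L : List ℕ} : ∀ {l : List (ℕ × ℕ)} {m d : ℕ}, (∀ x ∈ l, (x.1).Prime) →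
    enum K L l m = true → d ∣ (l.map fun x => x.1 ^ x.2).prod → (∀ y ∈ K, ¬ y ∣ m * d) → m * d ∈ L := by
  intro l
  induction l with
  | nil =>
    intro m d _ h hd _
    rw [List.map_nil, List.prod_nil, Nat.dvd_one] at hd
    subst hd
    unfold enum at h
    rw [mul_one]
    exact List.contains_iff_mem.1 h
  | cons x l ih =>
    intro m d hp h hd hK
    rw [List.map_cons, List.prod_cons] at hd
    obtain ⟨a, b, ha, hb, rfl⟩ := (Nat.dvd_mul).1 hd
    obtain ⟨k, hk, rfl⟩ := (Nat.dvd_prime_pow (hp x List.mem_cons_self)).1 ha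
    unfold enum at h
    rw [List.all_eq_true] at h
    have h1 := h k (List.mem_range.2 (by omega))
    rw [Bool.or_eq_true] at h1
    rw [← mul_assoc] at hK ⊢
    rcases h1 with h1 | h1
    · rw [List.any_eq_true] at h1
      obtain ⟨y, hy, h2⟩ := h1
      rw [beq_iff_eq] at h2
      exact absurd ((Nat.dvd_of_mod_eq_zero h2).trans (dvd_mul_right _ b)) (hK y hy)
    · exact ih (fun y hy => hp y (List.mem_cons_of_mem _ hy)) h1 hb hK

/-! ### Fixed dimensions -/

/-- the fixed dimensions of the elements of prime order -/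
def al : ℕ → List ℕ
  | 2 => [0, 8, 12, 16]
  | 3 => [0, 6, 8, 12]
  | 5 => [0, 4, 8]
  | 7 => [0, 6]
  | 11 => [4]
  | 13 => [0]
  | 23 => [2]
  | _ => List.range 25

theorem finrank_Sp : finrank ℚ Sp = 24 := Cfsg.Agent.H898.RowCo0.finrank_Sp

theorem mem_al {g : Co0} {p : ℕ} (hp : p.Prime) (hg : orderOf g = p) : finrank ℚ (fix (rep g)) ∈ al p := by
  by_cases h2 : p = 2
  · subst h2
    have h1 : g * g = 1 := by rw [← pow_two, ← hg, pow_orderOf_eq_one]
    have h3 : g ≠ 1 := by
      rintro rfl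
      rw [orderOf_one] at hg
      omega
    have h4 := Cfsg.Agent.BpSpor.Co2.Five.dims_two h1 h3
    unfold al
    simp only [List.mem_cons, List.not_mem_nil, or_false]
    omega
  by_cases h3 : p = 3
  · subst h3
    have h4 := Cfsg.Agent.H898.RowCo0.fix_three hg
    unfold al
    simp only [List.mem_cons, List.not_mem_nil, or_false]
    omega
  have h5 : 5 ≤ p := by
    by_contra hc
    push Not at hc
    interval_cases p
    all_goals first | exact absurd hp (by decide) | omega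
  have h8 := Cfsg.Agent.H898.RowCo0.fix_le_eight' hp h5 hg
  obtain ⟨k, hk⟩ := Cfsg.Agent.H898.RowCo0.exists_dim hp hg
  have hgen : finrank ℚ (fix (rep g)) ∈ List.range 25 := List.mem_range.2 (by omega)
  unfold al
  split
  · omega
  · omega
  · simp only [List.mem_cons, List.not_mem_nil, or_false]; omega
  · simp only [List.mem_cons, List.not_mem_nil, or_false]; omega
  · simp only [List.mem_cons, List.not_mem_nil, or_false]; omega
  · simp only [List.mem_cons, List.not_mem_nil, or_false]; omega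
  · simp only [List.mem_cons, List.not_mem_nil, or_false]; omega
  · exact hgen

/-! ### Excluding orders -/

/-- the primes of `|Co0|` dividing `N` -/
def psOf (N : ℕ) : List ℕ := [2, 3, 5, 7, 11, 13, 23].filter fun p => N % p == 0

theorem psOf_prime {N p : ℕ} (h : p ∈ psOf N) : p.Prime ∧ p ∣ N := by
  unfold psOf at h
  rw [List.mem_filter, beq_iff_eq] at h
  refine ⟨?_, Nat.dvd_of_mod_eq_zero h.2⟩
  have h1 := h.1
  simp only [List.mem_cons, List.not_mem_nil, or_false] at h1
  rcases h1 with rfl | rfl | rfl | rfl | rfl | rfl | rfl <;> norm_num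

/-- the constraints for elements of `Co0` -/
def cs0 (N : ℕ) : List (ℕ × List ℕ) := (psOf N).map fun p => (N / p, al p)

/-- the constraints for elements with a fixed vector -/
def cs1 (N : ℕ) : List (ℕ × List ℕ) :=
  (N / (psOf N).prod, List.range' 1 24) :: (psOf N).map fun p => (N / p, (al p).filter fun x => x != 0)

theorem sum_prof (g : Co0) {j : ℕ} (hj : 0 < j) : ∑ d ∈ j.divisors, prof (rep g) d = finrank ℚ (fix (rep (g ^ j))) := by
  rw [← finrank_fix_pow _ hj, map_pow]

theorem fix_one : finrank ℚ (fix (rep (1 : Co0))) = 24 := by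
  rw [map_one, ← finrank_Sp]
  have h1 : fix (1 : Module.End ℚ Sp) = ⊤ := by
    rw [eq_top_iff]
    intro v _
    rw [mem_fix]
    rfl
  rw [h1, finrank_top]

theorem ne_of_chk {N : ℕ} {cls : List (ℕ × List ℕ)} (h : chk N 24 cls (cs0 N) = true) (g : Co0) : orderOf g ≠ N := by
  intro hg
  have hN : 0 < N := by
    unfold chk at h
    simp only [Bool.and_eq_true, bne_iff_ne] at h
    exact Nat.pos_of_ne_zero h.1.1.1.1
  refine kill (e := prof (rep g)) (fun d hd => dvd_prof _ hd) h ?_ ?_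
  · rw [sum_prof g hN, ← hg, pow_orderOf_eq_one, fix_one]
  · intro c hc
    unfold cs0 at hc
    obtain ⟨p, hp, rfl⟩ := List.mem_map.1 hc
    obtain ⟨hpp, hpN⟩ := psOf_prime hp
    have hj : 0 < N / p := Nat.div_pos (Nat.le_of_dvd hN hpN) hpp.pos
    dsimp only
    rw [sum_prof g hj]
    apply mem_al hpp
    rw [orderOf_pow_of_dvd hj.ne' (by rw [hg]; exact Nat.div_dvd_of_dvd hpN), hg, Nat.div_div_self hpN hN.ne']

theorem ne_of_chk_fix {N : ℕ} {cls : List (ℕ × List ℕ)} (h : chk N 24 cls (cs1 N) = true) {g : Co0}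
    {v : leechLattice} (hv : v ≠ 0) (hgv : g • v = v) : orderOf g ≠ N := by
  intro hg
  have h0 := h
  unfold chk at h0
  simp only [Bool.and_eq_true, bne_iff_ne] at h0
  have hN : 0 < N := Nat.pos_of_ne_zero h0.1.1.1.1
  have hj0 : 0 < N / (psOf N).prod := by
    have h1 := h0.1.2
    rw [List.all_eq_true] at h1
    have h2 := h1 (N / (psOf N).prod, List.range' 1 24) (by unfold cs1; exact List.mem_cons_self)
    rw [Bool.and_eq_true, bne_iff_ne] at h2
    exact Nat.pos_of_ne_zero h2.1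
  have hfix : ∀ j : ℕ, 0 < finrank ℚ (fix (rep (g ^ j))) := by
    intro j
    rw [Module.finrank_pos_iff]
    refine ⟨⟨⟨toV v, ?_⟩, 0, ?_⟩⟩
    · rw [mem_fix, rep_toV]
      congr 1
      induction j with
      | zero => rw [pow_zero, one_smul]
      | succ j ih => rw [pow_succ, mul_smul, hgv, ih]
    · intro h1
      apply hv
      apply toV_injective
      have h2 := congrArg Subtype.val h1
      rw [show toV (0 : leechLattice) = 0 from ?_]
      · exact h2
      · funext i
        rfl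
  refine kill (e := prof (rep g)) (fun d hd => dvd_prof _ hd) h ?_ ?_
  · rw [sum_prof g hN, ← hg, pow_orderOf_eq_one, fix_one]
  · intro c hc
    unfold cs1 at hc
    rcases List.mem_cons.1 hc with rfl | hc
    · dsimp only
      rw [sum_prof g hj0, List.mem_range'_1]
      refine ⟨hfix _, ?_⟩
      have h1 := Submodule.finrank_le (fix (rep (g ^ (N / (psOf N).prod))))
      rw [finrank_Sp] at h1
      omega
    · obtain ⟨p, hp, rfl⟩ := List.mem_map.1 hc
      obtain ⟨hpp, hpN⟩ := psOf_prime hp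
      have hj : 0 < N / p := Nat.div_pos (Nat.le_of_dvd hN hpN) hpp.pos
      dsimp only
      rw [sum_prof g hj, List.mem_filter, bne_iff_ne]
      refine ⟨mem_al hpp ?_, (hfix _).ne'⟩
      rw [orderOf_pow_of_dvd hj.ne' (by rw [hg]; exact Nat.div_dvd_of_dvd hpN), hg, Nat.div_div_self hpN hN.ne']

/-! ### The data -/

def K0 : List (ℕ × List (ℕ × List ℕ)) := [
  (64, [(64, [64]), (1, [1, 2, 4, 8, 16, 32])]),
  (81, [(81, [81]), (1, [1, 3, 9, 27])]),
  (125, [(125, [125]), (1, [1, 5, 25])]),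
  (49, [(49, [49]), (1, [1, 7])]),
  (55, [(55, [55]), (11, [11]), (5, [5]), (1, [1])]),
  (63, [(63, [63]), (7, [7, 21]), (9, [9]), (1, [1, 3])]),
  (65, [(65, [65]), (13, [13]), (5, [5]), (1, [1])]),
  (69, [(69, [69]), (23, [23]), (3, [3]), (1, [1])]),
  (75, [(75, [75]), (25, [25]), (3, [3, 15]), (1, [1, 5])]),
  (77, [(77, [77]), (11, [11]), (7, [7]), (1, [1])]),
  (88, [(88, [88]), (11, [11, 22, 44]), (8, [8]), (1, [1, 2, 4])]),
  (91, [(91, [91]), (13, [13]), (7, [7]), (1, [1])]),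
  (92, [(92, [92]), (23, [23, 46]), (4, [4]), (1, [1, 2])]),
  (96, [(96, [96]), (32, [32]), (3, [3, 6, 12, 24, 48]), (1, [1, 2, 4, 8, 16])]),
  (99, [(99, [99]), (11, [11, 33]), (9, [9]), (1, [1, 3])]),
  (100, [(100, [100]), (25, [25, 50]), (4, [4, 20]), (1, [1, 2, 5, 10])]),
  (104, [(104, [104]), (13, [13, 26, 52]), (8, [8]), (1, [1, 2, 4])]),
  (105, [(105, [105]), (35, [35]), (21, [21]), (15, [15]), (7, [7]), (5, [5]), (3, [3]), (1, [1])]),
  (108, [(108, [108]), (27, [27, 54]), (4, [4, 12, 36]), (1, [1, 2, 3, 6, 9, 18])]),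
  (112, [(112, [112]), (16, [16]), (7, [7, 14, 28, 56]), (1, [1, 2, 4, 8])]),
  (115, [(115, [115]), (23, [23]), (5, [5]), (1, [1])]),
  (117, [(117, [117]), (13, [13, 39]), (9, [9]), (1, [1, 3])]),
  (132, [(132, [132]), (33, [33, 66]), (44, [44]), (11, [11, 22]), (12, [12]), (3, [3, 6]), (4, [4]), (1, [1, 2])]),
  (135, [(135, [135]), (27, [27]), (5, [5, 15, 45]), (1, [1, 3, 9])]),
  (140, [(140, [140]), (35, [35, 70]), (28, [28]), (20, [20]), (7, [7, 14]), (5, [5, 10]), (4, [4]), (1, [1, 2])]),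
  (143, [(143, [143]), (13, [13]), (11, [11]), (1, [1])]),
  (156, [(156, [156]), (39, [39, 78]), (52, [52]), (13, [13, 26]), (12, [12]), (3, [3, 6]), (4, [4]), (1, [1, 2])]),
  (160, [(160, [160]), (32, [32]), (5, [5, 10, 20, 40, 80]), (1, [1, 2, 4, 8, 16])]),
  (161, [(161, [161]), (23, [23]), (7, [7]), (1, [1])]),
  (168, [(168, [168]), (56, [56]), (21, [21, 42, 84]), (24, [24]), (7, [7, 14, 28]), (8, [8]), (3, [3, 6, 12]), (1, [1, 2, 4])]),
  (175, [(175, [175]), (25, [25]), (7, [7, 35]), (1, [1, 5])]),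
  (180, [(180, [180]), (45, [45, 90]), (36, [36]), (20, [20, 60]), (9, [9, 18]), (5, [5, 10, 15, 30]), (4, [4, 12]), (1, [1, 2, 3, 6])]),
  (253, [(253, [253]), (23, [23]), (11, [11]), (1, [1])]),
  (299, [(299, [299]), (23, [23]), (13, [13]), (1, [1])])]

def K1 : List (ℕ × List (ℕ × List ℕ)) := [
  (13, [(13, [13]), (1, [1])]),
  (33, [(33, [33]), (11, [11]), (3, [3]), (1, [1])]),
  (35, [(35, [35]), (7, [7]), (5, [5]), (1, [1])]),
  (44, [(44, [44]), (11, [11, 22]), (4, [4]), (1, [1, 2])]),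
  (45, [(45, [45]), (9, [9]), (5, [5, 15]), (1, [1, 3])]),
  (46, [(23, [23]), (46, [46]), (1, [1]), (2, [2])]),
  (50, [(25, [25]), (50, [50]), (1, [1, 5]), (2, [2, 10])]),
  (54, [(27, [27]), (54, [54]), (1, [1, 3, 9]), (2, [2, 6, 18])]),
  (56, [(56, [56]), (7, [7, 14, 28]), (8, [8]), (1, [1, 2, 4])]),
  (80, [(80, [80]), (16, [16]), (5, [5, 10, 20, 40]), (1, [1, 2, 4, 8])]),
  (84, [(84, [84]), (21, [21, 42]), (28, [28]), (7, [7, 14]), (12, [12]), (3, [3, 6]), (4, [4]), (1, [1, 2])]),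
  (120, [(120, [120]), (40, [40]), (15, [15, 30, 60]), (24, [24]), (5, [5, 10, 20]), (8, [8]), (3, [3, 6, 12]), (1, [1, 2, 4])])]

theorem k0 : (K0.all fun x => chk x.1 24 x.2 (cs0 x.1)) = true := by decide +kernel
theorem k1 : (K1.all fun x => chk x.1 24 x.2 (cs1 x.1)) = true := by decide +kernel

/-- the orders that are not excluded -/
def L0 : List ℕ := [1, 2, 3, 4, 5, 6, 7, 8, 9, 10, 11, 12, 13, 14, 15, 16, 18, 20, 21, 22, 23, 24, 25, 26, 27, 28, 30, 32, 33, 35, 36, 39, 40, 42, 44, 45, 46, 48, 50, 52, 54, 56, 60, 66, 70, 72, 78, 80, 84, 90, 120, 144, 240]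

/-- the orders that are not excluded for elements with fixed vectors -/
def L1 : List ℕ := [1, 2, 3, 4, 5, 6, 7, 8, 9, 10, 11, 12, 14, 15, 16, 18, 20, 21, 22, 23, 24, 25, 27, 28, 30, 32, 36, 40, 42, 48, 60, 72, 144]

def lCo : List (ℕ × ℕ) := [(2, 22), (3, 9), (5, 4), (7, 2), (11, 1), (13, 1), (23, 1)]

theorem lCo_prime : ∀ x ∈ lCo, (x.1).Prime := by
  intro x hx
  simp only [lCo, List.mem_cons, List.not_mem_nil, or_false] at hx
  rcases hx with rfl | rfl | rfl | rfl | rfl | rfl | rfl <;> norm_num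

theorem lCo_prod : (lCo.map fun x => x.1 ^ x.2).prod = 8315553613086720000 := by decide +kernel

theorem enum0 : enum (K0.map fun x => x.1) L0 lCo 1 = true := by decide +kernel
theorem enum1 : enum ((K0 ++ K1).map fun x => x.1) L1 lCo 1 = true := by decide +kernel

theorem dvd_card (g : Co0) : orderOf g ∣ (lCo.map fun x => x.1 ^ x.2).prod := by
  rw [lCo_prod, ← Cfsg.Agent.S0397.result]
  exact orderOf_dvd_natCard g

theorem not_dvd0 (g : Co0) (y : ℕ) (hy : y ∈ K0.map fun x => x.1) : ¬ y ∣ orderOf g := by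
  intro h
  obtain ⟨x, hx, rfl⟩ := List.mem_map.1 hy
  have h1 := k0
  rw [List.all_eq_true] at h1
  have hpos : orderOf g ≠ 0 := by
    intro h0
    have h2 := dvd_card g
    rw [h0, lCo_prod] at h2
    exact absurd h2 (by norm_num)
  refine ne_of_chk (h1 x hx) (g ^ (orderOf g / x.1)) ?_
  have h3 : orderOf g / x.1 ≠ 0 := by
    intro h4
    have h5 := Nat.div_mul_cancel h
    rw [h4, zero_mul] at h5
    exact hpos h5.symm
  rw [orderOf_pow_of_dvd h3 (Nat.div_dvd_of_dvd h), Nat.div_div_self h hpos]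

/-- **The element orders of `Co0`.** -/
theorem orders_co0 (g : Co0) : orderOf g ∈ L0 := by
  have h := enum_sound (m := 1) lCo_prime enum0 (dvd_card g) (fun y hy => by rw [one_mul]; exact not_dvd0 g y hy)
  rwa [one_mul] at h

theorem L0_le : ∀ m ∈ L0, m ≤ 240 := by decide

theorem le_240 (g : Co0) : orderOf g ≤ 240 := L0_le _ (orders_co0 g)

theorem orderOf_ne_zero (g : Co0) : orderOf g ≠ 0 := by
  intro h
  have h1 := orders_co0 g
  rw [h] at h1
  exact absurd h1 (by decide)

theorem not_dvd1 {g : Co0} {v : leechLattice} (hv : v ≠ 0) (hgv : g • v = v) (y : ℕ)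
    (hy : y ∈ (K0 ++ K1).map fun x => x.1) : ¬ y ∣ orderOf g := by
  rw [List.map_append, List.mem_append] at hy
  rcases hy with hy | hy
  · exact not_dvd0 g y hy
  intro h
  obtain ⟨x, hx, rfl⟩ := List.mem_map.1 hy
  have h1 := k1
  rw [List.all_eq_true] at h1
  have h3 : orderOf g / x.1 ≠ 0 := by
    intro h4
    have h5 := Nat.div_mul_cancel h
    rw [h4, zero_mul] at h5
    exact orderOf_ne_zero g h5.symm
  have hpw : ∀ j : ℕ, g ^ j • v = v := by
    intro j
    induction j with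
    | zero => rw [pow_zero, one_smul]
    | succ j ih => rw [pow_succ, mul_smul, hgv, ih]
  refine ne_of_chk_fix (h1 x hx) hv (hpw (orderOf g / x.1)) ?_
  rw [orderOf_pow_of_dvd h3 (Nat.div_dvd_of_dvd h), Nat.div_div_self h (orderOf_ne_zero g)]

/-- **The orders of elements of `Co0` with a fixed vector.** -/
theorem orders_fix {g : Co0} {v : leechLattice} (hv : v ≠ 0) (hgv : g • v = v) : orderOf g ∈ L1 := by
  have h := enum_sound (m := 1) lCo_prime enum1 (dvd_card g) (fun y hy => by rw [one_mul]; exact not_dvd1 hv hgv y hy)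
  rwa [one_mul] at h

theorem L1_le : ∀ m ∈ L1, m ≤ 144 := by decide

end Cfsg.Agent.H536.TC
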