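import Cfsg.Agent.H482.TwoCyc.Row
import Cfsg.Agent.H715.Fpr.Row3
import Cfsg.Agent.H536.TC.Srch
import Cfsg.Prelude.Def_KGroupFacts

/-!
# Two cycles: tools for the sporadic rows (helper536, S3507)

* `pow_mem` : `g ^ |Out T| ∈ T`;
* `exists_kl` : the lengths of the two cycles divide the order of `g`;
* `okp_index` : the residues of the index of a subgroup modulo `p` (`p² ∤ |S|`);
* `false_of_chk` : the row from a finite check.
-/

set_option autoImplicit false

namespace Cfsg.Agent.H536.TC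

open MulAction Cfsg Cfsg.Agent.H384.Cyc Cfsg.Agent.H482.TwoCyc

universe u v

section

variable {G : Type u} [Group G] {Ω : Type v} [MulAction G Ω]

/-- the powers of automorphisms -/
theorem exists_inner {T : Type u} [Group T] {k : ℕ} (hk : Nat.card (Out T) = k) (hk0 : k ≠ 0) (α : MulAut T) :
    ∃ t : T, α ^ k = MulAut.conj t := by
  have hfin : Finite (Out T) := Nat.finite_of_card_ne_zero (by rw [hk]; exact hk0)
  have h1 : ((α : MulAut T) : Out T) ^ k = 1 := by rw [← hk]; exact pow_card_eq_one'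
  have h2 : ((α ^ k : MulAut T) : Out T) = 1 := by rw [← h1]; rfl
  obtain ⟨t, ht⟩ := (QuotientGroup.eq_one_iff _).1 h2
  exact ⟨t, ht.symm⟩

theorem mo_of_out {T : Type u} [Group T] [Finite T] {k c : ℕ} (hk : Nat.card (Out T) = k) (hk0 : k ≠ 0)
    (hc : ∀ t : T, orderOf t ≤ c) : Mo T (k * c) := by
  intro α
  obtain ⟨t, ht⟩ := exists_inner hk hk0 α
  have h1 : α ^ (k * orderOf t) = 1 := by
    rw [pow_mul, ht, ← map_pow, pow_orderOf_eq_one, map_one]
  have h2 := Nat.le_of_dvd (Nat.mul_pos (Nat.pos_of_ne_zero hk0) (orderOf_pos t)) (orderOf_dvd_of_pow_eq_one h1)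
  exact h2.trans (Nat.mul_le_mul_left k (hc t))

theorem pow_mem {T : Subgroup G} {g : G} (h : TC G Ω T g) {k : ℕ} (hk : Nat.card (Out T) = k) (hk0 : k ≠ 0) :
    g ^ k ∈ T := by
  have := h.norm
  obtain ⟨t, ht⟩ := exists_inner hk hk0 (MulAut.conjNormal g : MulAut T)
  have h1 : (t : G)⁻¹ * g ^ k ∈ Subgroup.centralizer (T : Set G) := by
    rw [Subgroup.mem_centralizer_iff]
    intro y hy
    have h2 := congrArg (fun f : MulAut T => ((f ⟨y, hy⟩ : T) : G)) ht
    rw [← map_pow] at h2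
    simp only [MulAut.conjNormal_apply, MulAut.conj_apply, Subgroup.coe_mul, InvMemClass.coe_inv] at h2
    calc y * ((t : G)⁻¹ * g ^ k) = (t : G)⁻¹ * ((t : G) * y * (t : G)⁻¹) * g ^ k := by group
      _ = (t : G)⁻¹ * (g ^ k * y * (g ^ k)⁻¹) * g ^ k := by rw [h2]
      _ = (t : G)⁻¹ * g ^ k * y := by group
  rw [h.cent, Subgroup.mem_bot] at h1
  have h2 : (t : G) = g ^ k := inv_mul_eq_one.1 h1
  rw [← h2]
  exact t.2

/-- the lengths of the two cycles -/
theorem exists_kl [Finite G] [Finite Ω] {g : G} (hg : Two Ω g) :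
    ∃ k l, k ∣ orderOf g ∧ l ∣ orderOf g ∧ Nat.card Ω = k + l := by
  classical
  have := Fintype.ofFinite (orbitRel.Quotient (Subgroup.zpowers g) Ω)
  have h0 : (Finset.univ : Finset (orbitRel.Quotient (Subgroup.zpowers g) Ω)).card = 2 := by
    rw [Finset.card_univ, ← Nat.card_eq_fintype_card]
    exact hg
  obtain ⟨qa, qb, hq, h1⟩ := Finset.card_eq_two.1 h0
  refine ⟨Nat.card qa.orbit, Nat.card qb.orbit, ?_, ?_, ?_⟩
  · rw [← Nat.card_zpowers]; exact card_orbit_dvd qa
  · rw [← Nat.card_zpowers]; exact card_orbit_dvd qb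
  · rw [card_eq_sum (K := Subgroup.zpowers g), h1, Finset.sum_pair hq]

end

/-! ### Residues -/

/-- `n ≡ f mod p` with `f = 0` or `p f ∣ N` -/
def okp (p N n : ℕ) : Bool :=
  n % p == 0 || (List.range (N / p + 1)).any fun f => f != 0 && N % (p * f) == 0 && n % p == f % p

theorem okp_index {S : Type u} [Group S] [Finite S] {p N : ℕ} (hp : p.Prime) (hpS : p ∣ Nat.card S)
    (h2 : ¬ p ^ 2 ∣ Nat.card S) (hN : ∀ R : Subgroup S, Nat.card R = p → Nat.card (Subgroup.normalizer (R : Set S)) = N)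
    (H : Subgroup S) : okp p N H.index = true := by
  obtain ⟨x, hx, hmod, h⟩ := Cfsg.Agent.H715.Fpr.fix_prime_exact hp hpS h2 H
  unfold okp
  rw [Bool.or_eq_true, beq_iff_eq]
  rcases h with h | ⟨R, hR, h⟩
  · left
    rw [h] at hmod
    rw [← hmod]
    exact Nat.zero_mod p
  · right
    rw [hN R hR] at h
    have hNpos : 0 < N := by
      rw [← hN R hR]
      exact Nat.card_pos
    set f := Nat.card (fixedBy (S ⧸ H) x) with hf
    have hf0 : f ≠ 0 := by
      intro h0
      rw [h0, mul_zero, zero_dvd_iff] at h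
      omega
    have h3 : f ≤ N / p := by
      rw [Nat.le_div_iff_mul_le hp.pos, mul_comm]
      exact Nat.le_of_dvd hNpos h
    rw [List.any_eq_true]
    refine ⟨f, List.mem_range.2 (by omega), ?_⟩
    rw [Bool.and_eq_true, Bool.and_eq_true, bne_iff_ne, beq_iff_eq, beq_iff_eq]
    exact ⟨⟨hf0, Nat.mod_eq_zero_of_dvd h⟩, hmod.symm⟩

/-! ### The row from a finite check -/

/-- the check: `L` = the possible orders of `g`, `lo` = lower bound for the degree, `N = |T|` -/
def rowChk (L : List ℕ) (lo N : ℕ) (ps : List (ℕ × ℕ)) : Bool :=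
  L.all fun m => (divs m).all fun k => (divs m).all fun l =>
    Nat.blt (k + l) lo || N % (k + l) != 0 || ps.any fun x => !okp x.1 x.2 (k + l)

theorem false_of_chk {G : Type u} [Group G] {Ω : Type v} [MulAction G Ω] {T : Subgroup G} {g : G} (h : TC G Ω T g)
    {L : List ℕ} {lo N : ℕ} {ps : List (ℕ × ℕ)} (hchk : rowChk L lo N ps = true) (hg : orderOf g ∈ L)
    (hN : Nat.card T = N) (hlo : lo ≤ Nat.card Ω)
    (hps : ∀ x ∈ ps, (x.1).Prime ∧ x.1 ∣ N ∧ ¬ x.1 ^ 2 ∣ N ∧
      ∀ R : Subgroup T, Nat.card R = x.1 → Nat.card (Subgroup.normalizer (R : Set T)) = x.2) : False := by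
  have := h.finG
  have := h.finΩ
  obtain ⟨-, h1⟩ := exists_index h
  obtain ⟨k, l, hk, hl, hkl⟩ := exists_kl h.two
  have hne : Nonempty Ω := by
    by_contra hcon
    rw [not_nonempty_iff] at hcon
    have := h.two
    unfold Two at this
    rw [Nat.card_of_isEmpty] at this
    omega
  obtain ⟨a⟩ := hne
  obtain ⟨h2, -⟩ := h1 a
  have hpos : 0 < orderOf g := orderOf_pos g
  unfold rowChk at hchk
  rw [List.all_eq_true] at hchk
  have h3 := hchk _ hg
  rw [List.all_eq_true] at h3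
  have h4 := h3 k ((mem_divs hpos).2 (Nat.mem_divisors.2 ⟨hk, hpos.ne'⟩))
  rw [List.all_eq_true] at h4
  have h5 := h4 l ((mem_divs hpos).2 (Nat.mem_divisors.2 ⟨hl, hpos.ne'⟩))
  rw [Bool.or_eq_true, Bool.or_eq_true] at h5
  rcases h5 with (h5 | h5) | h5
  · rw [Nat.blt_eq] at h5
    omega
  · rw [bne_iff_ne] at h5
    apply h5
    rw [← hkl, ← h2, ← hN]
    exact Nat.mod_eq_zero_of_dvd (Subgroup.index_dvd_card _)
  · rw [List.any_eq_true] at h5
    obtain ⟨x, hx, h6⟩ := h5
    obtain ⟨hp, hp1, hp2, hp3⟩ := hps x hx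
    have h7 := okp_index hp (by rw [hN]; exact hp1) (by rw [hN]; exact hp2) hp3 (stabilizer T a)
    rw [h2, hkl] at h7
    rw [h7] at h6
    exact absurd h6 (by decide)

end Cfsg.Agent.H536.TC
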