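import Cfsg.Agent.H536.TC.RowMcL
import Cfsg.Agent.H396.TwoCyc.Deg
import Cfsg.Agent.H904.HSIso
import Cfsg.Agent.H57.TTHSOrder
import Cfsg.Agent.CpAutHSFive.Row
import Cfsg.Agent.H497.Stein.HSMc
import Cfsg.Agent.H455.NoNine
import Cfsg.Agent.H525.RO.CoTf
import Cfsg.Agent.H597.PsuDeg
import Cfsg.Agent.H792.Sp.ConwayFive
import Cfsg.Agent.S2072

/-!
# TWOCYC (S3507): the Higman–Sims group (helper536)

* `orders_hs` : `orderOf t ∈ LH`;
* `md_hs` : the nonlinear irreducible characters of `HS` have degree at least `20`;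
* `row_hs` : the row `Row3 (fun T _ => Spor.IsoHS T)`.
-/

set_option autoImplicit false

namespace Cfsg.Agent.H536.TC

open MulAction Cfsg Cfsg.Agent.H384.Cyc Cfsg.Agent.H482.TwoCyc Cfsg.Agent.H867.MinIdx
open Subgroup (centralizer)
open Cfsg.Agent.H954.OutDeg (MD)

universe u v

/-! ### Powers -/

theorem exists_pow_order {S : Type u} [Group S] [Finite S] {t : S} {d : ℕ} (hd : d ∣ orderOf t) :
    ∃ x : S, orderOf x = d ∧ t * x = x * t := by
  have hpos := orderOf_pos t
  have h0 : orderOf t / d ≠ 0 := by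
    intro h
    have h1 := Nat.div_mul_cancel hd
    rw [h, zero_mul] at h1
    omega
  refine ⟨t ^ (orderOf t / d), ?_, ?_⟩
  · rw [orderOf_pow_of_dvd h0 (Nat.div_dvd_of_dvd hd), Nat.div_div_self hd hpos.ne']
  · rw [← pow_succ', pow_succ]

theorem dvd_of_mem {S : Type u} [Group S] {K : Subgroup S} {t : S} (ht : t ∈ K) {n : ℕ}
    (hK : Nat.card K ∣ n) : orderOf t ∣ n := by
  rw [← Subgroup.orderOf_mk t ht]
  exact (orderOf_dvd_natCard _).trans hK

theorem eq_of_cent {S : Type u} [Group S] [Finite S] {p : ℕ}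
    (hC : ∀ x : S, orderOf x = p → Nat.card (centralizer ({x} : Set S)) = p) {t : S} (h : p ∣ orderOf t) :
    orderOf t = p := by
  obtain ⟨x, hx, htx⟩ := exists_pow_order h
  refine Nat.dvd_antisymm (dvd_of_mem (K := centralizer ({x} : Set S)) ?_ (hC x hx).dvd) h
  exact Subgroup.mem_centralizer_singleton_iff.2 htx

/-! ### The orders in `HS` -/

theorem hs_refl : Spor.IsoHS Spor.HS := ⟨MulEquiv.refl _⟩

theorem fin_hs : Finite Spor.HS := Nat.finite_of_card_ne_zero (by rw [Cfsg.Agent.H792.SpU35.card_HS]; norm_num)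

theorem hs_ten {t : Spor.HS} (h : 10 ∣ orderOf t) : orderOf t ∣ 20 := by
  have := fin_hs
  have hpos := orderOf_pos t
  have h2 : 2 ∣ orderOf t := (by norm_num : 2 ∣ 10).trans h
  have h5 : 5 ∣ orderOf t := (by norm_num : 5 ∣ 10).trans h
  have hord : ∀ d, d ∣ orderOf t → orderOf (t ^ (orderOf t / d)) = d := by
    intro d hd
    have h0 : orderOf t / d ≠ 0 := by
      intro h
      have h1 := Nat.div_mul_cancel hd
      rw [h, zero_mul] at h1
      omega
    rw [orderOf_pow_of_dvd h0 (Nat.div_dvd_of_dvd hd), Nat.div_div_self hd hpos.ne']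
  have hs := hord 2 h2
  have hx := hord 5 h5
  set s := t ^ (orderOf t / 2) with hsd
  set x := t ^ (orderOf t / 5) with hxd
  have hss : s * s = 1 := by rw [← pow_two, ← hs, pow_orderOf_eq_one]
  have hs1 : s ≠ 1 := by
    intro h
    rw [h, orderOf_one] at hs
    omega
  have hsx : s * x = x * s := by rw [hsd, hxd, ← pow_add, ← pow_add, add_comm]
  have h3 := Cfsg.Agent.CpAutHSFive.card_DD hs_refl hss hs1 hx hsx
  refine dvd_of_mem (K := Cfsg.Agent.CpAut.SmallP.DD x s) (Cfsg.Agent.CpAut.SmallP.mem_DD.2 ⟨?_, ?_⟩) h3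
  · rw [hsd, ← pow_succ', pow_succ]
  · rw [hxd, ← pow_succ', pow_succ]

theorem hs_nine (t : Spor.HS) : orderOf t ≠ 9 := by
  obtain ⟨f, hf⟩ := Cfsg.Agent.H497.Stein.exists_mHS
  have := fin_hs
  have h3 : (Nat.card Spor.HS).factorization 3 = 2 := by
    rw [Cfsg.Agent.H792.SpU35.card_HS, show (44352000 : ℕ) = 3 ^ 2 * 4928000 by norm_num,
      Nat.factorization_mul (by norm_num) (by norm_num), Finsupp.add_apply, Nat.prime_three.factorization_pow,
      Finsupp.single_eq_same, Nat.factorization_eq_zero_of_not_dvd (by norm_num)]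
  refine Cfsg.Agent.H455.NoNine.no_nine h3 (f Cfsg.Agent.H337.M22Three.S) (f Cfsg.Agent.H337.M22Three.S') ?_ ?_ ?_ ?_ t
  · rw [← map_mul, Cfsg.Agent.H337.M22Three.S_comm, map_mul]
  · rw [← map_pow, Cfsg.Agent.H337.M22Three.S_cube, map_one]
  · rw [← map_pow, Cfsg.Agent.H337.M22Three.S'_cube, map_one]
  · have h1 : (fun p : Fin 3 × Fin 3 => f Cfsg.Agent.H337.M22Three.S ^ (p.1 : ℕ) *
        f Cfsg.Agent.H337.M22Three.S' ^ (p.2 : ℕ)) = f ∘ fun p : Fin 3 × Fin 3 =>
          Cfsg.Agent.H337.M22Three.S ^ (p.1 : ℕ) * Cfsg.Agent.H337.M22Three.S' ^ (p.2 : ℕ) := by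
      funext p
      rw [Function.comp_apply, map_mul, map_pow, map_pow]
    rw [h1]
    exact hf.comp Cfsg.Agent.H337.M22Three.pow_injective

theorem hs_sixteen (t : Spor.HS) : orderOf t ≠ 16 := by
  intro h
  have := Cfsg.Agent.H57.TTHSOrder.hs_order hs_refl (x := t) (k := 4) (by rw [h]; norm_num)
  omega

theorem hs_twentyfive (t : Spor.HS) : orderOf t ≠ 25 := by
  intro h
  have hle : Spor.HS ≤ Co0 := inf_le_left.trans inf_le_left
  have h1 : orderOf t = orderOf (⟨t.1, hle t.2⟩ : Co0) := by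
    rw [← Subgroup.orderOf_coe t, ← Subgroup.orderOf_coe]
  rw [h1] at h
  have h2 := Cfsg.Agent.H525.RO.CoTf.co0_pow (g := (⟨t.1, hle t.2⟩ : Co0)) (n := 2) (by
    rw [show 5 ^ 2 = 25 by norm_num, ← h, pow_orderOf_eq_one])
  have h3 := orderOf_dvd_of_pow_eq_one h2
  rw [h] at h3
  omega

/-- the orders in `HS` and some more -/
def LH : List ℕ := [1, 2, 3, 4, 5, 6, 7, 8, 10, 11, 12, 15, 20, 23, 24]

/-- the excluded orders -/
def exH (m : ℕ) : Bool :=
  (m % 7 == 0 && m != 7) || (m % 11 == 0 && m != 11) || (m % 10 == 0 && 20 % m != 0) || m % 9 == 0 || m % 16 == 0 ||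
    m % 25 == 0

theorem chkLH : (L1.all fun m => LH.contains m || exH m) = true := by decide +kernel

theorem orders_hs (t : Spor.HS) : orderOf t ∈ LH := by
  have := fin_hs
  have hle : Spor.HS ≤ Co0 := inf_le_left.trans inf_le_left
  have h1 : orderOf t ∈ L1 := orders_sub (K := Spor.HS) hle V_ne (fun x (hx : x ∈ (Co0 ⊓ _) ⊓ _) => hx.1.2) t
  have h := chkLH
  rw [List.all_eq_true] at h
  have h2 := h _ h1
  rw [Bool.or_eq_true] at h2
  rcases h2 with h2 | h2
  · exact List.contains_iff_mem.1 h2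
  exfalso
  unfold exH at h2
  simp only [Bool.or_eq_true, Bool.and_eq_true, beq_iff_eq, bne_iff_ne] at h2
  have key : ∀ d : ℕ, (∀ s : Spor.HS, orderOf s ≠ d) → orderOf t % d ≠ 0 := by
    intro d hd h3
    obtain ⟨x, hx, -⟩ := exists_pow_order (Nat.dvd_of_mod_eq_zero h3)
    exact hd x hx
  rcases h2 with ((((⟨h2, h3⟩ | ⟨h2, h3⟩) | ⟨h2, h3⟩) | h2) | h2) | h2
  · exact h3 (eq_of_cent (fun x hx => Cfsg.Agent.H904.HSIso.card_seven hs_refl hx) (Nat.dvd_of_mod_eq_zero h2))
  · exact h3 (eq_of_cent (fun x hx => Cfsg.Agent.H904.HSIso.card_eleven hs_refl hx) (Nat.dvd_of_mod_eq_zero h2))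
  · exact h3 (Nat.mod_eq_zero_of_dvd (hs_ten (Nat.dvd_of_mod_eq_zero h2)))
  · exact key 9 hs_nine h2
  · exact key 16 hs_sixteen h2
  · exact key 25 hs_twentyfive h2

/-! ### Degrees -/

/-- a simple central quotient is not commutative -/
theorem not_comm_quot {H : Type u} [Group H] [hs : IsSimpleGroup (H ⧸ Subgroup.center H)] :
    ¬ IsMulCommutative (H ⧸ Subgroup.center H) := by
  intro hc
  let _ : CommGroup (H ⧸ Subgroup.center H) :=
    { (inferInstance : Group (H ⧸ Subgroup.center H)) with mul_comm := hc.is_comm.comm }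
  have hcyc : IsCyclic (H ⧸ Subgroup.center H) := IsSimpleGroup.isCyclic
  have h1 : ∀ a b : H, a * b = b * a := fun a b =>
    commutative_of_cyclic_center_quotient (QuotientGroup.mk' (Subgroup.center H)) (by rw [QuotientGroup.ker_mk']) a b
  obtain ⟨x, hx⟩ := exists_ne (1 : H ⧸ Subgroup.center H)
  obtain ⟨a, rfl⟩ := QuotientGroup.mk_surjective x
  exact hx ((QuotientGroup.eq_one_iff a).2 (Subgroup.mem_center_iff.2 fun b => h1 b a))

open Cfsg.Agent.H792.SpU35 in
theorem md_hs : MD Spor.HS 20 := by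
  have := fin_hs
  have := Cfsg.Agent.CpAutHSFive.simple
  obtain ⟨F, _, _, hF⟩ := exists_field
  have hs : IsSimpleGroup (PSU 3 F 5) := Cfsg.Agent.S0283.result (by rw [hF]; norm_num) 3 le_rfl (by omega)
  have hna : ¬ IsMulCommutative (PSU 3 F 5) := not_comm_quot (H := ↥(Cfsg.SU 3 F 5)) (hs := hs)
  have h1 : MD (PSU 3 F 5) ((5 - 1) * 5 ^ (3 - 2)) :=
    Cfsg.Agent.H597.PsuDeg.md_psu (X := PSU 3 F 5) (F := F) (q := 5) (n := 3) (by rw [hF]; norm_num) le_rfl
      (MulEquiv.refl _)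
  norm_num at h1
  obtain ⟨x, Tr⟩ := exists_tri sq_V hs_pair.1 hs_pair.2
  obtain ⟨e1⟩ := Tr.exists_hom hF
  let W := MulAction.stabilizer Co0 Spor.leechV ⊓ MulAction.stabilizer Co0 (-(Spor.leechV + Spor.leechU')) ⊓
      MulAction.stabilizer Co0 x
  let f : W →* Spor.HS := (Co0.subtype.comp W.subtype).codRestrict Spor.HS fun g => mem_HS g.2.1.1 g.2.1.2
  have hf : Function.Injective f := by
    intro a b h
    have h1 := congrArg Subtype.val h
    exact Subtype.ext (Subtype.ext h1)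
  have hinj : Function.Injective (f.comp e1.toMonoidHom) := by
    rw [MonoidHom.coe_comp]
    exact hf.comp e1.injective
  exact Cfsg.Agent.H396.TwoCyc.md_of_sub hna (f.comp e1.toMonoidHom) hinj h1

theorem chk_hs : rowChk (LH ++ LH.map (2 * ·)) 61 44352000 [(7, 42), (11, 55)] = true := by decide +kernel

theorem row_hs : Row3.{u, v} (fun T _ => Spor.IsoHS T) := by
  intro G Ω _ _ T g h hT
  by_contra hcon
  obtain ⟨e⟩ := id hT
  have hfinG := h.finG
  have hfin : Finite T := inferInstance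
  have hcard : Nat.card T = 44352000 := by
    rw [Nat.card_congr e.toEquiv, Cfsg.Agent.H792.SpU35.card_HS]
  have hout : Nat.card (Out T) = 2 := by
    rw [← Cfsg.Agent.S2072.result]
    exact Cfsg.Agent.H934.OutB.card_out_congr e
  have hg : orderOf g ∈ LH ++ LH.map (2 * ·) := by
    have hgT : g ^ 2 ∈ T := pow_mem h hout two_ne_zero
    apply ord_two
    have h1 : orderOf (g ^ 2) = orderOf (e ⟨g ^ 2, hgT⟩) := by
      rw [MulEquiv.orderOf_eq, ← Subgroup.orderOf_coe]
    rw [h1]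
    exact orders_hs _
  have hlo : 3 * 20 + 1 ≤ Nat.card Ω := Cfsg.Agent.H396.TwoCyc.lower h hcon (md_hs.congr e.symm)
  refine false_of_chk h chk_hs hg hcard hlo ?_
  intro x hx
  simp only [List.mem_cons, List.not_mem_nil, or_false] at hx
  rcases hx with rfl | rfl
  · exact ⟨by norm_num, by norm_num, by norm_num, fun R hR => (Cfsg.Agent.H904.TwoHS.seven hT R hR).2⟩
  · obtain ⟨-, -, H⟩ := Cfsg.Agent.H904.TwoHS.eleven hT
    exact ⟨by norm_num, by norm_num, by norm_num, fun R hR => (H R hR).2⟩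

end Cfsg.Agent.H536.TC
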