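import Cfsg.Agent.H536.TC.Tools
import Cfsg.Agent.H536.TC.Co0Ord
import Cfsg.Agent.H867.SporMI
import Cfsg.Agent.H468.RowConway
import Cfsg.Agent.H555.TwoSp.CoThreeSeven
import Cfsg.Agent.Schreier.CoTwoStab
import Cfsg.Agent.S2069
import Cfsg.Agent.S2070
import Cfsg.Agent.S2071
import Cfsg.Agent.S2150
import Cfsg.Agent.H49.CoStab

/-!
# TWOCYC (S3507): the Conway groups (helper536)

* `sm_co1` : `Sm Spor.Co1`, `sm_co2` : `Sm Spor.Co2`;
* `row_co1`, `row_co2`, `row_co3` : the rows `Row3 (fun T _ => Spor.IsoCoN T)`.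
-/

set_option autoImplicit false

namespace Cfsg.Agent.H536.TC

open MulAction Cfsg Cfsg.Agent.H384.Cyc Cfsg.Agent.H482.TwoCyc Cfsg.Agent.H867.MinIdx

universe u v

theorem ne_zero_of_sq {v : leechLattice} (h : sqNorm (v : GolayPt → ℤ) ≠ 0) : v ≠ 0 := by
  rintro rfl
  apply h
  simp [sqNorm]

theorem orders_sub {K : Subgroup (Equiv.Perm leechLattice)} (hK : K ≤ Co0) {v : leechLattice} (hv : v ≠ 0)
    (hfix : ∀ t ∈ K, t v = v) (t : K) : orderOf t ∈ L1 := by
  have h1 : orderOf t = orderOf (⟨t.1, hK t.2⟩ : Co0) := by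
    rw [← Subgroup.orderOf_coe t, ← Subgroup.orderOf_coe]
  rw [h1]
  exact orders_fix hv (hfix t.1 t.2)

theorem U_ne : Spor.leechU ≠ 0 := ne_zero_of_sq (by
  show sqNorm Spor.vecU ≠ 0
  decide +kernel)

theorem V_ne : Spor.leechV ≠ 0 := ne_zero_of_sq (by
  show sqNorm Spor.vecV ≠ 0
  decide +kernel)

theorem orders_co2 (t : Spor.Co2) : orderOf t ∈ L1 :=
  orders_sub (K := Spor.Co2) inf_le_left U_ne (fun x (hx : x ∈ Co0 ⊓ _) => hx.2) t

theorem orders_co3 (t : Spor.Co3) : orderOf t ∈ L1 :=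
  orders_sub (K := Spor.Co3) inf_le_left V_ne (fun x (hx : x ∈ Co0 ⊓ _) => hx.2) t

theorem sm_co1 : Sm Spor.Co1 := by
  have hc : Nat.card Co0 ≠ 0 := by rw [Cfsg.Agent.S0397.result]; norm_num
  have hfin0 : Finite Co0 := Nat.finite_of_card_ne_zero hc
  have hfin : Finite Spor.Co1 := Quotient.finite _
  refine ⟨240, ?_, fun H hH => ?_⟩
  · have h := mo_of_out (T := Spor.Co1) (k := 1) (c := 240) Cfsg.Agent.S2069.result one_ne_zero fun t => by
      obtain ⟨g, rfl⟩ := QuotientGroup.mk_surjective t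
      exact (Nat.le_of_dvd (orderOf_pos g) (orderOf_map_dvd (QuotientGroup.mk' _) g)).trans (le_240 g)
    rwa [one_mul] at h
  · have := Cfsg.Agent.H867.SporMI.co1.index H hH
    omega

theorem sm_co2 : Sm Spor.Co2 := by
  have hfin : Finite Spor.Co2 := Cfsg.Agent.Schreier.CoTwoStab.finite
  refine ⟨144, ?_, fun H hH => ?_⟩
  · have h := mo_of_out (T := Spor.Co2) (k := 1) (c := 144) Cfsg.Agent.S2070.result one_ne_zero fun t =>
      L1_le _ (orders_co2 t)
    rwa [one_mul] at h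
  · have := (Cfsg.Agent.H867.SporMI.co2 Cfsg.Agent.Schreier.CoTwoStab.isSimpleGroup).index H hH
    omega

theorem row_co1 : Row3.{u, v} (fun T _ => Spor.IsoCo1 T) := by
  intro G Ω _ _ T g h hT
  obtain ⟨e⟩ := hT
  exact row_sm G Ω T g h (sm_co1.congr e.symm)

theorem row_co2 : Row3.{u, v} (fun T _ => Spor.IsoCo2 T) := by
  intro G Ω _ _ T g h hT
  obtain ⟨e⟩ := hT
  exact row_sm G Ω T g h (sm_co2.congr e.symm)

/-! ### `Co₃` -/

theorem mi_u43 {F : Type} [Field F] [Fintype F] (hF : Fintype.card F = 9) : MI (PSU 4 F 3) 112 := by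
  apply MI.of_index
  intro K hK
  have h := (Cfsg.Agent.S2150.result (F := F) 3 (by rw [hF]; norm_num) (by norm_num)).1 K hK
  norm_num at h
  exact h

theorem exists_u43 : ∃ (F : Type) (_ : Field F) (_ : Fintype F) (f : PSU 4 F 3 →* Spor.McL),
    MI (PSU 4 F 3) 112 ∧ Nontrivial (PSU 4 F 3) ∧ Function.Injective f := by
  obtain ⟨F, iF, iF', hF, f, hf⟩ := Cfsg.Agent.H468.exists_psu_mcl
  have := S0283.result (F := F) (q := 3) (by rw [hF]; norm_num) 4 (by norm_num) (by norm_num)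
  exact ⟨F, iF, iF', f, mi_u43 hF, this.toNontrivial, hf⟩

theorem mi_mcl (hs : IsSimpleGroup Spor.McL) : MI Spor.McL 112 := by
  obtain ⟨F, _, _, f, h1, h2, h3⟩ := exists_u43
  exact Cfsg.Agent.H867.SporMI.of_embed h1 f h3 h2

theorem mi_co3 : MI Spor.Co3 112 := by
  have hs := Cfsg.Agent.H49.CoStab.simple_co3
  obtain ⟨F, _, _, f, h1, h2, h3⟩ := exists_u43
  have hle : Spor.McL ≤ Spor.Co3 := inf_le_left
  refine Cfsg.Agent.H867.SporMI.of_embed h1 ((Subgroup.inclusion hle).comp f) ?_ h2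
  rw [MonoidHom.coe_comp]
  exact (Subgroup.inclusion_injective hle).comp h3

theorem chk_co3 : rowChk L1 112 495766656000 [(23, 253), (11, 110)] = true := by decide +kernel

theorem row_co3 : Row3.{u, v} (fun T _ => Spor.IsoCo3 T) := by
  intro G Ω _ _ T g h hT
  exfalso
  obtain ⟨e⟩ := id hT
  have hfinG := h.finG
  have hfin : Finite T := inferInstance
  have hcard : Nat.card T = 495766656000 := Cfsg.Agent.H555.TwoSp.card_co3 hT
  have hout : Nat.card (Out T) = 1 := by
    rw [← Cfsg.Agent.S2071.result]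
    exact Cfsg.Agent.H934.OutB.card_out_congr e
  have hgT : g ∈ T := by
    have h1 := pow_mem h hout one_ne_zero
    rwa [pow_one] at h1
  have hg : orderOf g ∈ L1 := by
    have h1 : orderOf g = orderOf (e ⟨g, hgT⟩) := by
      rw [MulEquiv.orderOf_eq, ← Subgroup.orderOf_coe]
    rw [h1]
    exact orders_co3 _
  obtain ⟨-, h1⟩ := exists_index h
  have hlo : 112 ≤ Nat.card Ω := by
    have hne : Nonempty Ω := by
      by_contra hcon
      rw [not_nonempty_iff] at hcon
      have := h.two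
      unfold Two at this
      rw [Nat.card_of_isEmpty] at this
      omega
    obtain ⟨a⟩ := hne
    obtain ⟨h2, h3⟩ := h1 a
    rw [← h2]
    exact (mi_co3.congr e.symm).index _ h3
  refine false_of_chk h chk_co3 hg hcard hlo ?_
  intro x hx
  simp only [List.mem_cons, List.not_mem_nil, or_false] at hx
  rcases hx with rfl | rfl
  · exact ⟨by norm_num, by norm_num, by norm_num, fun R hR => Cfsg.Agent.H555.TwoSp.n23 hT R hR⟩
  · exact ⟨by norm_num, by norm_num, by norm_num, fun R hR => Cfsg.Agent.H555.TwoSp.n11 hT R hR⟩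

end Cfsg.Agent.H536.TC
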