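import Cfsg.Agent.H536.TC.RowCo
import Cfsg.Agent.H380.AltSpec
import Cfsg.Agent.TypeM.FactsMcL
import Cfsg.Agent.H904.McLCent
import Cfsg.Agent.S2073

/-!
# TWOCYC (S3507): the McLaughlin group (helper536)

* `orders_mcl` : `orderOf t ∈ LM`;
* `row_mcl` : the row `Row3 (fun T _ => Spor.IsoMcL T)`.
-/

set_option autoImplicit false

namespace Cfsg.Agent.H536.TC

open MulAction Cfsg Cfsg.Agent.H384.Cyc Cfsg.Agent.H482.TwoCyc Cfsg.Agent.H867.MinIdx
open Subgroup (centralizer)
open Cfsg.Agent.TypeM.Two (MT)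

universe u v

/-- the orders of elements whose square has order in `L` -/
theorem ord_two {G : Type u} [Group G] [Finite G] {L : List ℕ} {g : G} (h : orderOf (g ^ 2) ∈ L) :
    orderOf g ∈ L ++ L.map (2 * ·) := by
  rw [List.mem_append]
  have hpos := orderOf_pos g
  rw [orderOf_pow] at h
  rcases (Nat.dvd_prime Nat.prime_two).1 (Nat.gcd_dvd_right (orderOf g) 2) with h1 | h1
  · left
    rwa [h1, Nat.div_one] at h
  · right
    rw [h1] at h
    refine List.mem_map.2 ⟨_, h, ?_⟩
    exact Nat.mul_div_cancel' ((Nat.gcd_eq_right_iff_dvd).1 h1)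

/-! ### `A₈` and `2.A₈` -/

theorem chkA8 : ((Cfsg.Agent.H380.AltSpec.T 8 8).all fun x => !x.2 || [1, 2, 3, 4, 5, 6, 7, 15].contains x.1) = true := by
  decide +kernel

theorem orders_alt_eight (g : alternatingGroup (Fin 8)) : orderOf g ∈ [1, 2, 3, 4, 5, 6, 7, 15] := by
  have h := chkA8
  rw [List.all_eq_true] at h
  have h1 := h _ (Cfsg.Agent.H380.AltSpec.orderOf_mem_T g)
  simpa using h1

/-- elements of even order -/
theorem half_mt {n : ℕ} {M : Type u} [Group M] [Finite M] (L : MT n M) {k : ℕ} {g : M} (hg : orderOf g = 2 * k) :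
    ∃ σ : alternatingGroup (Fin n), orderOf σ = k := by
  have hk : 0 < k := by
    have := orderOf_pos g
    omega
  have h1 : g ^ k * g ^ k = 1 := by
    rw [← pow_add, ← two_mul, ← hg, pow_orderOf_eq_one]
  have h2 : g ^ k ≠ 1 := by
    intro h3
    have h4 := Nat.le_of_dvd hk (orderOf_dvd_of_pow_eq_one h3)
    omega
  obtain ⟨x, hx⟩ := L.one _ h1 h2
  -- `y = x⁻¹ g x` has `y ^ k = t`
  set y := x⁻¹ * g * x with hy
  have hyk : ∀ m : ℕ, y ^ m = x⁻¹ * g ^ m * x := by
    intro m
    have := conj_pow (i := m) (a := x⁻¹) (b := g)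
    rw [inv_inv] at this
    exact this
  have h3 : y ^ k = L.t := by
    rw [hyk, ← hx]; group
  have h4 : y * L.t = L.t * y := by
    rw [← h3, ← pow_succ, ← pow_succ']
  have h5 : orderOf y = 2 * k := by
    rw [← hg, hy]
    have := (MulAut.conj x⁻¹).orderOf_eq g
    rw [← this]
    congr 1
    rw [MulAut.conj_apply, inv_inv]
  let c : centralizer ({L.t} : Set M) := ⟨y, Subgroup.mem_centralizer_singleton_iff.2 h4⟩
  have hc : ∀ m, L.K.π c ^ m = 1 ↔ k ∣ m := by
    intro m
    rw [← map_pow, L.K.ker]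
    have h6 : (c ^ m = 1 ∨ c ^ m = L.K.z) ↔ (y ^ m = 1 ∨ y ^ m = L.t) := by
      rw [Subtype.ext_iff, Subtype.ext_iff, L.hz]
      rfl
    rw [h6]
    constructor
    · rintro (h7 | h7)
      · have h8 := orderOf_dvd_of_pow_eq_one h7
        rw [h5] at h8
        exact (dvd_mul_left k 2).trans h8
      · have h8 : y ^ (2 * m) = 1 := by
          rw [mul_comm, pow_mul, h7, pow_two, L.t_mul_t]
        have h9 := orderOf_dvd_of_pow_eq_one h8
        rw [h5] at h9
        exact Nat.dvd_of_mul_dvd_mul_left two_pos h9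
    · rintro ⟨j, rfl⟩
      rw [pow_mul, h3]
      rcases Nat.even_or_odd' j with ⟨i, rfl | rfl⟩
      · left
        rw [pow_mul, pow_two, L.t_mul_t, one_pow]
      · right
        rw [pow_succ, pow_mul, pow_two, L.t_mul_t, one_pow, one_mul]
  refine ⟨⟨L.K.π c, L.K.mem_alternating c⟩, ?_⟩
  rw [Subgroup.orderOf_mk]
  apply Nat.dvd_antisymm
  · exact orderOf_dvd_of_pow_eq_one ((hc k).2 dvd_rfl)
  · exact (hc _).1 (pow_orderOf_eq_one _)

/-! ### The orders in `McL` -/

/-- the orders in `McL` and some more -/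
def LM : List ℕ := [1, 2, 3, 4, 5, 6, 7, 8, 9, 10, 11, 12, 14, 15, 21, 23, 25, 27, 30]

theorem chkLM : (L1.all fun m => LM.contains m || (m % 2 == 0 && !([1, 2, 3, 4, 5, 6, 7, 15].contains (m / 2)))) = true := by
  decide +kernel

theorem orders_mcl (t : Spor.McL) : orderOf t ∈ LM := by
  have hle : Spor.McL ≤ Co0 := inf_le_left.trans inf_le_left
  have h1 : orderOf t ∈ L1 := orders_sub (K := Spor.McL) hle U_ne (fun x (hx : x ∈ Spor.Co3 ⊓ _) => hx.2) t
  have h := chkLM
  rw [List.all_eq_true] at h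
  have h2 := h _ h1
  rw [Bool.or_eq_true, Bool.and_eq_true, beq_iff_eq, Bool.not_eq_true'] at h2
  rcases h2 with h2 | ⟨h2, h3⟩
  · exact List.contains_iff_mem.1 h2
  · exfalso
    obtain ⟨hfin, -, -, ⟨L⟩⟩ := Cfsg.Agent.TypeM.FactsMcL.facts (M := Spor.McL) ⟨MulEquiv.refl _⟩
    obtain ⟨σ, hσ⟩ := half_mt L (g := t) (k := orderOf t / 2) (by omega)
    have h4 := orders_alt_eight σ
    rw [hσ, ← List.contains_iff_mem, h3] at h4
    exact absurd h4 (by decide)

theorem chk_mcl : rowChk (LM ++ LM.map (2 * ·)) 112 898128000 [(11, 55)] = true := by decide +kernel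

/-- the number of points is at least the minimal index -/
theorem le_points {G : Type u} [Group G] {Ω : Type v} [MulAction G Ω] {T : Subgroup G} {g : G} (h : TC G Ω T g)
    {lo : ℕ} (hT : MI T lo) : lo ≤ Nat.card Ω := by
  have hfinG := h.finG
  have hfinΩ := h.finΩ
  have hfin : Finite T := inferInstance
  obtain ⟨-, h1⟩ := exists_index h
  have hne : Nonempty Ω := by
    by_contra hcon
    rw [not_nonempty_iff] at hcon
    have := h.two
    unfold Two at this
    rw [Nat.card_of_isEmpty] at this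
    omega
  obtain ⟨a⟩ := hne
  obtain ⟨h2, h3⟩ := h1 a
  rw [← h2]
  exact hT.index _ h3

theorem row_mcl : Row3.{u, v} (fun T _ => Spor.IsoMcL T) := by
  intro G Ω _ _ T g h hT
  exfalso
  obtain ⟨e⟩ := id hT
  have hfinG := h.finG
  have hfin : Finite T := inferInstance
  have hcard : Nat.card T = 898128000 := Cfsg.Agent.H904.McLCent.card_L hT
  have hout : Nat.card (Out T) = 2 := by
    rw [← Cfsg.Agent.S2073.result]
    exact Cfsg.Agent.H934.OutB.card_out_congr e
  have hg : orderOf g ∈ LM ++ LM.map (2 * ·) := by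
    have hgT : g ^ 2 ∈ T := pow_mem h hout two_ne_zero
    apply ord_two
    have h1 : orderOf (g ^ 2) = orderOf (e ⟨g ^ 2, hgT⟩) := by
      rw [MulEquiv.orderOf_eq, ← Subgroup.orderOf_coe]
    rw [h1]
    exact orders_mcl _
  have hlo : 112 ≤ Nat.card Ω :=
    le_points h ((mi_mcl Cfsg.Agent.Schreier.McLaughlin.isSimple_mcl).congr e.symm)
  refine false_of_chk h chk_mcl hg hcard hlo ?_
  intro x hx
  simp only [List.mem_cons, List.not_mem_nil, or_false] at hx
  subst hx
  exact ⟨by norm_num, by norm_num, by norm_num, fun R hR => (Cfsg.Agent.H904.McLCent.eleven hT R hR).2⟩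

end Cfsg.Agent.H536.TC
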