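import Cfsg.Agent.PreUniqCo.Rat

/-!
# The profile of an endomorphism of finite order of a rational space (helper536)

`prof f d` : the dimension of the kernel of the `d`-th cyclotomic polynomial in `f`;
* `dvd_prof` : `φ(d) ∣ prof f d`;
* `finrank_fix_pow` : `dim fix (f ^ n) = ∑_{d ∣ n} prof f d`.
-/

set_option autoImplicit false

namespace Cfsg.Agent.H536.TC

open Module Polynomial Cfsg.Agent.SigZeroCo2.Rank

variable {V : Type*} [AddCommGroup V] [Module ℚ V]

/-- the dimension of the `d`-part -/
noncomputable def prof (f : Module.End ℚ V) (d : ℕ) : ℕ := finrank ℚ (LinearMap.ker (aeval f (cyclotomic d ℚ)))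

theorem dvd_prof (f : Module.End ℚ V) {d : ℕ} (hd : 0 < d) : d.totient ∣ prof f d := by
  set K := LinearMap.ker (aeval f (cyclotomic d ℚ)) with hK
  have hinv : ∀ v ∈ K, f v ∈ K := by
    intro v hv
    rw [hK, LinearMap.mem_ker] at hv ⊢
    have h1 : Commute f (aeval f (cyclotomic d ℚ)) := by
      have h2 : f = aeval f (X : ℚ[X]) := (aeval_X f).symm
      conv_lhs => rw [h2]
      exact (Commute.all (X : ℚ[X]) (cyclotomic d ℚ)).map (aeval f)
    have h3 : aeval f (cyclotomic d ℚ) (f v) = f (aeval f (cyclotomic d ℚ) v) := by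
      rw [← Module.End.mul_apply, ← Module.End.mul_apply, h1.eq]
    rw [h3, hv, map_zero]
  refine Cfsg.Agent.PreUniqCo.Rat.dvd_finrank_of_aeval hd (f.restrict hinv) ?_
  apply LinearMap.ext
  intro v
  apply Subtype.ext
  have key : ∀ p : ℚ[X], ((aeval (f.restrict hinv) p v : K) : V) = aeval f p (v : V) := by
    intro p
    induction p using Polynomial.induction_on' with
    | add p q hp hq =>
      rw [map_add, map_add, LinearMap.add_apply, LinearMap.add_apply, Submodule.coe_add, hp, hq]
    | monomial n a =>
      rw [aeval_monomial, aeval_monomial, Module.End.mul_apply, Module.End.mul_apply, Module.algebraMap_end_apply,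
        Module.algebraMap_end_apply, Submodule.coe_smul, Module.End.pow_restrict]
      rfl
  rw [key]
  have h1 : (v : V) ∈ K := v.2
  rw [hK, LinearMap.mem_ker] at h1
  rw [h1]
  rfl

variable [FiniteDimensional ℚ V]

theorem finrank_ker_mul (f : Module.End ℚ V) {p q : ℚ[X]} (h : IsCoprime p q) :
    finrank ℚ (LinearMap.ker (aeval f (p * q))) =
      finrank ℚ (LinearMap.ker (aeval f p)) + finrank ℚ (LinearMap.ker (aeval f q)) := by
  rw [← sup_ker_aeval_eq_ker_aeval_mul_of_coprime f h]
  have h1 := Submodule.finrank_sup_add_finrank_inf_eq (LinearMap.ker (aeval f p)) (LinearMap.ker (aeval f q))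
  have h2 := (disjoint_ker_aeval_of_isCoprime f h).eq_bot
  rw [h2, finrank_bot, add_zero] at h1
  exact h1

theorem finrank_ker_prod (f : Module.End ℚ V) (S : Finset ℕ) :
    finrank ℚ (LinearMap.ker (aeval f (∏ d ∈ S, cyclotomic d ℚ))) = ∑ d ∈ S, prof f d := by
  classical
  induction S using Finset.induction_on with
  | empty =>
    rw [Finset.prod_empty, Finset.sum_empty, map_one, Module.End.one_eq_id, LinearMap.ker_id, finrank_bot]
  | insert a S ha ih =>
    rw [Finset.prod_insert ha, Finset.sum_insert ha, finrank_ker_mul, ih]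
    · rfl
    · refine IsCoprime.prod_right fun d hd => cyclotomic.isCoprime_rat ?_
      rintro rfl
      exact ha hd

/-- the fixed space of a power -/
theorem finrank_fix_pow (f : Module.End ℚ V) {n : ℕ} (hn : 0 < n) :
    finrank ℚ (fix (f ^ n)) = ∑ d ∈ n.divisors, prof f d := by
  rw [← finrank_ker_prod, prod_cyclotomic_eq_X_pow_sub_one hn, map_sub, map_pow, aeval_X, map_one]
  rfl

end Cfsg.Agent.H536.TC
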